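import Mathlib
import Cfsg.Prelude.Def_G2

/-!
# Project OCT (S4632): definitions

The split octonions in Zorn's model `Fin 8 → F`, coordinates `(α, a₀, a₁, a₂, b₀, b₁, b₂, β)`.
All automorphisms are given as FUNCTIONS `Oct F → Oct F`; `matOf f` is the matrix of a linear `f`,
`glOf f` the element of `GL (Fin 8) F` with that matrix (junk value `1` if `matOf f` is singular).
-/

set_option autoImplicit false

namespace Cfsg.Agent.Lib.Helper18.OCT

open Cfsg.Lie Matrix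

variable {F : Type*} [Field F]

/-- the octonions as coordinate vectors -/
abbrev Oct (F : Type*) := Fin 8 → F

/-- the matrix whose `j`-th column is `f (e_j)` -/
def matOf (f : Oct F → Oct F) : Matrix (Fin 8) (Fin 8) F :=
  Matrix.of fun i j => f (Pi.single j 1) i

/-- the element of `GL₈` with matrix `matOf f` (`1` if that matrix is singular) -/
noncomputable def glOf (f : Oct F → Oct F) : GL (Fin 8) F := by
  classical
  exact if h : IsUnit (matOf f).det then (matOf f).nonsingInvUnit h else 1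

/-- the action of `GL₈` on vectors -/
def act (g : GL (Fin 8) F) (x : Oct F) : Oct F := (g : Matrix (Fin 8) (Fin 8) F) *ᵥ x

/-- `e₁ = [[1,0],[0,0]]` -/
def e1 : Oct F := ![1, 0, 0, 0, 0, 0, 0, 0]
/-- `e₂ = [[0,0],[0,1]]` -/
def e2 : Oct F := ![0, 0, 0, 0, 0, 0, 0, 1]
/-- the identity element `e₁ + e₂` -/
def one8 : Oct F := ![1, 0, 0, 0, 0, 0, 0, 1]

/-- the nontrivial idempotents -/
def Idem (F : Type*) [Field F] : Set (Oct F) := {e | zornMul e e = e ∧ e ≠ 0 ∧ e ≠ one8}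

/-- `τ : [[α, a],[b, β]] ↦ [[β, -b],[-a, α]]` -/
def tauFun (x : Oct F) : Oct F := ![x 7, -x 4, -x 5, -x 6, -x 1, -x 2, -x 3, x 0]

/-- the short root element `x_u = exp(D_u)`:
`[[α, a],[b, β]] ↦ [[α - u·b, a + (α - β - u·b) u],[b + u × a, β + u·b]]` -/
def xuFun (u : Fin 3 → F) (x : Oct F) : Oct F :=
  ![x 0 - dot3 u (zB F x),
    x 1 + (x 0 - x 7 - dot3 u (zB F x)) * u 0,
    x 2 + (x 0 - x 7 - dot3 u (zB F x)) * u 1,
    x 3 + (x 0 - x 7 - dot3 u (zB F x)) * u 2,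
    x 4 + cross3 u (zA F x) 0,
    x 5 + cross3 u (zA F x) 1,
    x 6 + cross3 u (zA F x) 2,
    x 7 + dot3 u (zB F x)]

/-- `[[α, a],[b, β]] ↦ [[α, A a],[B b, β]]` (an automorphism for `B = A⁻ᵀ`, `det A = 1`) -/
def sl3Fun (A B : Matrix (Fin 3) (Fin 3) F) (x : Oct F) : Oct F :=
  ![x 0, (A *ᵥ zA F x) 0, (A *ᵥ zA F x) 1, (A *ᵥ zA F x) 2,
    (B *ᵥ zB F x) 0, (B *ᵥ zB F x) 1, (B *ᵥ zB F x) 2, x 7]

/-- the embedding `SL₃(F) → GL₈(F)` -/
noncomputable def sl3GL (A : Matrix.SpecialLinearGroup (Fin 3) F) : GL (Fin 8) F :=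
  glOf (sl3Fun (A : Matrix (Fin 3) (Fin 3) F)
    ((A⁻¹ : Matrix.SpecialLinearGroup (Fin 3) F) : Matrix (Fin 3) (Fin 3) F)ᵀ)

/-! ### Cayley–Dickson coordinates `x = A + B z`, `A = [[α, a₀],[b₀, β]]`, `B = [[a₁, b₂],[a₂, -b₁]]` -/

def cdA (x : Oct F) : Matrix (Fin 2) (Fin 2) F := !![x 0, x 1; x 4, x 7]
def cdB (x : Oct F) : Matrix (Fin 2) (Fin 2) F := !![x 2, x 6; x 3, -x 5]
def cdJoin (A B : Matrix (Fin 2) (Fin 2) F) : Oct F :=
  ![A 0 0, A 0 1, B 0 0, B 1 0, A 1 0, -B 1 1, B 0 1, A 1 1]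

/-- `A + B z ↦ A + (p B) z` (an automorphism for `det p = 1`) -/
def LFun (p : Matrix (Fin 2) (Fin 2) F) (x : Oct F) : Oct F := cdJoin (cdA x) (p * cdB x)
/-- `A + B z ↦ h A h⁻¹ + (h B h⁻¹) z` (an automorphism for `h` invertible) -/
noncomputable def MFun (h : Matrix (Fin 2) (Fin 2) F) (x : Oct F) : Oct F :=
  cdJoin (h * cdA x * h⁻¹) (h * cdB x * h⁻¹)

noncomputable def LGL (p : GL (Fin 2) F) : GL (Fin 8) F :=
  glOf (LFun (p : Matrix (Fin 2) (Fin 2) F))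
noncomputable def MGL (h : GL (Fin 2) F) : GL (Fin 8) F :=
  glOf (MFun (h : Matrix (Fin 2) (Fin 2) F))

/-! ### The `2`-subgroup `D` of `GL₂(F)` -/

/-- `x + y J`, `J = [[0, δ],[1, 0]]`, `J² = δ` -/
def kmat (δ x y : F) : Matrix (Fin 2) (Fin 2) F := !![x, δ * y; y, x]

/-- the torus `{x + y J}` inside `GL₂(F)` (as a set) -/
def TorSet (δ : F) : Set (GL (Fin 2) F) :=
  {g | ∃ x y : F, (g : Matrix (Fin 2) (Fin 2) F) = kmat δ x y}

/-- the elements of `2`-power order of the torus -/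
def ASet (δ : F) : Set (GL (Fin 2) F) := {g | g ∈ TorSet δ ∧ ∃ k : ℕ, g ^ (2 ^ k) = 1}

/-- `φ = diag(1, -1)` -/
def phiGL : GL (Fin 2) F :=
  Matrix.GeneralLinearGroup.mkOfDetNeZero !![1, 0; 0, -1] (by
    rw [Matrix.det_fin_two_of]
    simp)

/-- `D = A ∪ A φ` -/
def DGrp (δ : F) : Subgroup (GL (Fin 2) F) := Subgroup.closure (ASet δ ∪ {phiGL})

/-- `SL₂` inside `GL₂` -/
def SLker (F : Type*) [Field F] : Subgroup (GL (Fin 2) F) :=
  (Matrix.GeneralLinearGroup.det : GL (Fin 2) F →* Fˣ).ker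

/-- `R = D ∩ SL₂` -/
def RGrp (δ : F) : Subgroup (GL (Fin 2) F) := DGrp δ ⊓ SLker F

/-- the scalar matrices of `GL₂` -/
def ZGrp (F : Type*) [Field F] : Subgroup (GL (Fin 2) F) := Subgroup.center (GL (Fin 2) F)

/-- the candidate Sylow `2`-subgroup of `G₂(F)` -/
noncomputable def P0 (δ : F) : Subgroup (GL (Fin 8) F) :=
  Subgroup.closure (LGL '' (RGrp δ : Set (GL (Fin 2) F)) ∪ MGL '' (DGrp δ : Set (GL (Fin 2) F)))

/-- `δ = 1` if `-1` is a square in `F`, `δ = -1` otherwise -/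
noncomputable def delta (F : Type*) [Field F] : F := by
  classical
  exact if IsSquare (-1 : F) then 1 else -1

end Cfsg.Agent.Lib.Helper18.OCT
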